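import Cfsg.Agent.H584.S8.Wiel

/-!
# S4908: the lower bound for the modules of the Held group

`big` : a group containing `7^{1+2}` with an involution inverting the centre and an element of order 17, acting without
kernel on an elementary abelian group `V` : `718232 ^ 2 ≤ |V|`.
-/

set_option autoImplicit false

namespace Cfsg.Agent.H584.S8

open Subgroup

universe u v

section low

variable {X : Type v} [Group X] {V : Type u} [CommGroup V]

/-- no fixed points: the order is `1` modulo the order of `y` -/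
theorem modEq_one [Finite V] (ρ : X →* MulAut V) {q : ℕ} [Fact q.Prime] {y : X} (hy : y ^ q = 1) (W : Subgroup V)
    (hW : ∀ x ∈ W, ρ y x ∈ W) (hne : ∀ x ∈ W, ρ y x = x → x = 1) : Nat.card W ≡ 1 [MOD q] := by
  classical
  have hWz : ∀ k : ℕ, ∀ x ∈ W, ρ (y ^ k) x ∈ W := by
    intro k
    induction k with
    | zero => intro x hx; rw [pow_zero, map_one]; exact hx
    | succ k ih => intro x hx; rw [pow_succ, ap_mul]; exact ih _ (hW x hx)
  have ho : IsOfFinOrder y := isOfFinOrder_iff_pow_eq_one.2 ⟨q, (Fact.out : q.Prime).pos, hy⟩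
  have hWg : ∀ g : zpowers y, ∀ x ∈ W, ρ (g : X) x ∈ W := by
    intro g x hx
    obtain ⟨k, hk⟩ : ∃ k : ℕ, y ^ k = (g : X) := by
      have := g.2
      rw [← ho.mem_powers_iff_mem_zpowers] at this
      exact this
    rw [← hk]
    exact hWz k x hx
  let ρ' : zpowers y →* MulAut W :=
    { toFun := fun g =>
        { toFun := fun x => ⟨ρ g x, hWg g x x.2⟩
          invFun := fun x => ⟨ρ (g : X)⁻¹ x, hWg g⁻¹ x x.2⟩
          left_inv := fun x => Subtype.ext (ap_inv ρ (g : X) x)
          right_inv := fun x => Subtype.ext (ap_inv' ρ (g : X) x)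
          map_mul' := fun x z => Subtype.ext (map_mul (ρ (g : X)) (x : V) z) }
      map_one' := by
        ext x
        show ρ ((1 : zpowers y) : X) (x : V) = x
        rw [OneMemClass.coe_one, map_one]; rfl
      map_mul' := by
        intro g k
        ext x
        exact ap_mul ρ (g : X) (k : X) x }
  have h1 := card_modEq ρ' (q := q) (y := ⟨y, mem_zpowers y⟩) (Subtype.ext hy)
  have h2 : fx ρ' ⟨y, mem_zpowers y⟩ = ⊥ := by
    rw [eq_bot_iff]
    intro x hx
    have h3 : ρ y (x : V) = x := congrArg Subtype.val hx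
    exact Subtype.ext (hne x x.2 h3)
  rw [h2, Subgroup.card_bot] at h1
  exact h1

/-- `[V, z] ≠ 1` and `|[V, z]| = c ^ p` with `c ≡ 1` modulo `p` -/
theorem exists_c [Finite V] (ρ : X →* MulAut V) {p : ℕ} [Fact p.Prime] {z u v : X} (hz : z ^ p = 1) (hu : u ^ p = 1)
    (hzu : Commute z u) (hzv : Commute z v) {j : ℕ} (hj : ¬ p ∣ j) (huv : u * v = v * u * z ^ j) {r : ℕ} (hr : r.Prime)
    (hpr : p ≠ r) (hV : ∀ x : V, x ^ r = 1) (hne : ∃ x, ρ z x ≠ x) :
    ∃ a : ℕ, 0 < a ∧ r ^ a ≡ 1 [MOD p] ∧ Nat.card {x : V // ∏ k : ZMod p, ρ (z ^ k.val) x = 1} = (r ^ a) ^ p := by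
  classical
  have hcard := card_ker_eq_pow (p := p) ρ hz hu hzu hzv hj huv hr hpr hV
  have hcard2 : Nat.card {x : V // ∏ k : ZMod p, ρ (z ^ k.val) x = 1} = Nat.card (nm (al ρ p z u) (0, 1)).ker := by
    refine Nat.card_congr (Equiv.subtypeEquivRight fun x => ?_)
    exact (mem_ker_nm (p := p) ρ (u := u) x).symm
  obtain ⟨a, ha⟩ := card_eq_pow hr hV (Wi (al ρ p z u) 0)
  have hcop : Nat.Coprime p r := (Nat.coprime_primes Fact.out hr).2 hpr
  have hinj : ∀ x : V, x ^ p = 1 → x = 1 := by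
    intro x hx
    have h1 : orderOf x ∣ p := orderOf_dvd_of_pow_eq_one hx
    have h2 : orderOf x ∣ r := orderOf_dvd_of_pow_eq_one (hV x)
    exact orderOf_eq_one_iff.1 (Nat.eq_one_of_dvd_coprimes hcop h1 h2)
  have hzfix : ∀ x : V, ρ z x = x → ∏ k : ZMod p, ρ (z ^ k.val) x = x ^ p := by
    intro x hx
    have h1 : ∀ n : ℕ, ρ (z ^ n) x = x := by
      intro n
      induction n with
      | zero => rw [pow_zero, map_one]; rfl
      | succ n ih => rw [pow_succ, ap_mul, hx, ih]
    rw [Finset.prod_congr rfl fun k _ => h1 k.val, Finset.prod_const, Finset.card_univ, ZMod.card]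
  refine ⟨a, ?_, ?_, ?_⟩
  · by_contra ha0
    have ha0 : a = 0 := by omega
    subst ha0
    rw [ha, pow_zero, one_pow] at hcard
    obtain ⟨x, hx⟩ := hne
    apply hx
    -- the norm is injective
    set N := nm (al ρ p z u) (0, 1) with hN
    have hNinj : Function.Injective N := (MonoidHom.ker_eq_bot_iff N).1 (card_eq_one.1 hcard)
    have hNsurj : Function.Surjective N := Finite.injective_iff_surjective.1 hNinj
    obtain ⟨w, hw⟩ := hNsurj x
    have h1 := nm_fix (al_add ρ hz hu hzu) (0, 1) 1 w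
    rw [← hN, hw] at h1
    have h2 : al ρ p z u ((1 : ZMod p) • ((0, 1) : ZMod p × ZMod p)) = ρ z := by
      unfold al
      have : Fact (1 < p) := ⟨(Fact.out : p.Prime).one_lt⟩
      simp [ZMod.val_one]
    rw [h2] at h1
    exact h1
  · rw [← ha]
    refine modEq_one ρ hz _ ?_ ?_
    · rintro x ⟨hx1, hx2⟩
      rw [← MonoidHom.mem_ker, mem_ker_nm] at hx1
      refine ⟨?_, fun k => ?_⟩
      · rw [← MonoidHom.mem_ker, mem_ker_nm]
        have : ∀ k : ZMod p, ρ (z ^ k.val) (ρ z x) = ρ z (ρ (z ^ k.val) x) := by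
          intro k
          rw [← ap_mul, ← ap_mul, (Commute.self_pow z k.val).eq]
        rw [Finset.prod_congr rfl fun k _ => this k, ← map_prod, hx1, map_one]
      · have h1 := hx2 k
        unfold al at h1 ⊢
        rw [← ap_mul]
        have h2 : Commute (u ^ (k • ((1, 0) : ZMod p × ZMod p)).1.val * z ^ (k • ((1, 0) : ZMod p × ZMod p)).2.val) z :=
          ((hzu.symm.pow_left _).mul_left ((Commute.refl z).pow_left _))
        rw [h2.eq, ap_mul, h1]
    · rintro x ⟨hx1, -⟩ hx2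
      rw [← MonoidHom.mem_ker, mem_ker_nm, hzfix x hx2] at hx1
      exact hinj x hx1
  · rw [hcard2, hcard, ha]

/-- the small cases of the arithmetic -/
def smallB : Bool := (List.range 48).all fun r => (List.range 6).all fun j =>
  !(Nat.blt 2 r) || !(Nat.blt 0 j) || !(Nat.blt (r ^ j) 48) || !(Nat.beq (r ^ j % 7) 1) ||
    ([6, 8, 15, 22, 29, 36, 43].any fun x => Nat.beq x r)

theorem small_cases {r j : ℕ} (hr : r < 48) (hj : j < 6) (h2 : 2 < r) (h0 : 0 < j) (h48 : r ^ j < 48)
    (h7 : r ^ j % 7 = 1) : r ∈ ([6, 8, 15, 22, 29, 36, 43] : List ℕ) := by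
  have h : smallB = true := by decide +kernel
  unfold smallB at h
  have h1 := List.all_eq_true.1 (List.all_eq_true.1 h r (List.mem_range.2 hr)) j (List.mem_range.2 hj)
  simp only [Bool.or_eq_true, Bool.not_eq_true', List.any_eq_true, Nat.beq_eq] at h1
  rcases h1 with (((h1 | h1) | h1) | h1) | h1
  · exact absurd ((show Nat.blt _ _ = true from by rw [Nat.blt_eq]; exact h2).symm.trans h1) (by decide)
  · exact absurd ((show Nat.blt _ _ = true from by rw [Nat.blt_eq]; exact h0).symm.trans h1) (by decide)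
  · exact absurd ((show Nat.blt _ _ = true from by rw [Nat.blt_eq]; exact h48).symm.trans h1) (by decide)
  · rw [h7] at h1; exact absurd h1 (by decide)
  · obtain ⟨x, hx, rfl⟩ := h1
    exact hx

theorem pow_ge {r q e m : ℕ} (h : ∀ j < e, 0 < j → r ^ j % q ≠ 1 % q) (hr : 0 < r) (hm : m ≤ r ^ e) {j : ℕ} (hj : 0 < j)
    (h1 : r ^ j ≡ 1 [MOD q]) : m ≤ r ^ j := by
  rcases lt_or_ge j e with hlt | hge
  · exact absurd h1 (h j hlt hj)
  · exact hm.trans (Nat.pow_le_pow_right hr hge)

/-- **the lower bound** -/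
theorem big [Finite V] (ρ : X →* MulAut V) {z u v y : X} (hz : z ^ 7 = 1) (hu : u ^ 7 = 1)
    (hzu : Commute z u) (hzv : Commute z v) (huv : u * v = v * u * z ^ 2) (hy : y ^ 17 = 1) {r : ℕ} (hr : r.Prime)
    (hV : ∀ x : V, x ^ r = 1) (hnez : ∃ x, ρ z x ≠ x) (hney : ∃ x, ρ y x ≠ x)
    (hsq : r = 2 → ∃ f : ℕ, Nat.card {x : V // ∏ k ∈ Finset.range 7, ρ (z ^ k) x = 1} = f * f) :
    718232 ^ 2 ≤ Nat.card V := by
  classical
  have h7 : Fact (Nat.Prime 7) := ⟨by norm_num⟩
  have h17 : Fact (Nat.Prime 17) := ⟨by norm_num⟩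
  have hr0 : 0 < r := hr.pos
  have hVpos : 0 < Nat.card V := Nat.card_pos
  -- the element of order 17
  have hy17 : 17 ≠ r → ∃ j, 0 < j ∧ r ^ j ≡ 1 [MOD 17] ∧ r ^ j ≤ Nat.card V := by
    intro h
    obtain ⟨x, hx⟩ := hney
    obtain ⟨j, h1, h2, h3⟩ := exists_pow ρ hr h hV hy ⊤ (fun x _ => mem_top _) ⟨x, mem_top x, hx⟩
    refine ⟨j, h1, h2, ?_⟩
    rw [Subgroup.card_top] at h3
    exact Nat.le_of_dvd hVpos h3
  by_cases hr7 : r = 7
  · subst hr7
    obtain ⟨j, h1, h2, h3⟩ := hy17 (by norm_num)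
    refine le_trans ?_ h3
    exact pow_ge (e := 16) (by decide) (by norm_num) (by norm_num) h1 h2
  obtain ⟨a, ha0, ha1, hc⟩ := exists_c (p := 7) ρ hz hu hzu hzv (by norm_num) huv hr (fun h => hr7 h.symm) hV hnez
  have hle : (r ^ a) ^ 7 ≤ Nat.card V := by
    rw [← hc]
    exact Nat.card_le_card_of_injective _ Subtype.val_injective
  by_cases hr2 : r = 2
  · obtain ⟨f, hf⟩ := hsq hr2
    have e : Nat.card {x : V // ∏ k ∈ Finset.range 7, ρ (z ^ k) x = 1} =
        Nat.card {x : V // ∏ k : ZMod 7, ρ (z ^ k.val) x = 1} := by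
      refine Nat.card_congr (Equiv.subtypeEquivRight fun x => ?_)
      have h1 : ∏ k : ZMod 7, ρ (z ^ k.val) x = ∏ k ∈ Finset.range 7, ρ (z ^ k) x :=
        Fin.prod_univ_eq_prod_range (fun k => ρ (z ^ k) x) 7
      rw [h1]
    rw [e, hc] at hf
    subst hr2
    -- `7 a` is even
    have hfd : f ∣ 2 ^ (a * 7) := by
      rw [pow_mul]
      exact ⟨f, hf⟩
    obtain ⟨b, -, hb⟩ := (Nat.dvd_prime_pow Nat.prime_two).1 hfd
    rw [hb, ← pow_mul, ← pow_add] at hf
    have hab : a * 7 = b + b := Nat.pow_right_injective (le_refl 2) hf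
    have ha3 : 3 ∣ a := by
      have h1 : 2 ^ (a % 3) ≡ 1 [MOD 7] := by
        have h2 : 2 ^ a = (2 ^ 3) ^ (a / 3) * 2 ^ (a % 3) := by
          rw [← pow_mul, ← pow_add, Nat.div_add_mod]
        have h3 : (2 ^ 3) ^ (a / 3) ≡ 1 [MOD 7] := by
          have : (2 ^ 3) ≡ 1 [MOD 7] := by decide
          simpa using this.pow (a / 3)
        have h4 : (2 ^ 3) ^ (a / 3) * 2 ^ (a % 3) ≡ 1 * 2 ^ (a % 3) [MOD 7] := h3.mul_right _
        rw [one_mul, ← h2] at h4
        exact h4.symm.trans ha1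
      have h5 := Nat.mod_lt a (by norm_num : 0 < 3)
      apply Nat.dvd_of_mod_eq_zero
      interval_cases h : a % 3
      · rfl
      · exact absurd h1 (by decide)
      · exact absurd h1 (by decide)
    have ha6 : 6 ≤ a := by omega
    refine le_trans ?_ hle
    rw [← pow_mul]
    exact le_trans (by norm_num) (Nat.pow_le_pow_right (by norm_num) (Nat.mul_le_mul_right 7 ha6))
  have hr3 : 2 < r := by
    have := hr.two_le
    omega
  by_cases h48 : 48 ≤ r ^ a
  · refine le_trans ?_ hle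
    exact le_trans (by norm_num) (Nat.pow_le_pow_left h48 7)
  · have h1 : r ^ a < 48 := by omega
    have h2 : r < 48 := lt_of_le_of_lt (by
      calc r = r ^ 1 := (pow_one r).symm
        _ ≤ r ^ a := Nat.pow_le_pow_right hr0 ha0) h1
    have h3 : a < 6 := by
      by_contra hcon
      have : 2 ^ 6 ≤ r ^ a := (Nat.pow_le_pow_left hr3.le 6).trans (Nat.pow_le_pow_right hr0 (by omega))
      omega
    have h4 := small_cases h2 h3 hr3 ha0 h1 ha1
    simp only [List.mem_cons, List.not_mem_nil, or_false] at h4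
    rcases h4 with rfl | rfl | rfl | rfl | rfl | rfl | rfl
    · norm_num at hr
    · norm_num at hr
    · norm_num at hr
    · norm_num at hr
    · obtain ⟨j, h1, h2, h3⟩ := hy17 (by norm_num)
      exact (pow_ge (e := 9) (by decide) (by norm_num) (by norm_num) h1 h2).trans h3
    · norm_num at hr
    · obtain ⟨j, h1, h2, h3⟩ := hy17 (by norm_num)
      exact (pow_ge (e := 8) (by decide) (by norm_num) (by norm_num) h1 h2).trans h3

end low

end Cfsg.Agent.H584.S8
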