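import Cfsg.Agent.H584.S8.HeRL
import Cfsg.Agent.H584.S8.LowB
import Cfsg.Agent.H219.S8.HeT
import Cfsg.Agent.H128.S8.SqTwo
import Cfsg.Agent.H687.S8.HeGen

/-!
# S4908: `Chief` for the Held group
-/

set_option autoImplicit false
set_option maxRecDepth 100000

namespace Cfsg.Agent.H584.S8

open Subgroup Cfsg Cfsg.Agent.H704.S8

universe u v w

/-- `Chief` is invariant under isomorphisms -/
theorem chief_congr {X : Type v} {Y : Type w} [Group X] [Group Y] (e : X ≃* Y) {c : ℕ} {D : Set ℕ}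
    (h : Chief.{u} c D Y) : Chief.{u} c D X := by
  intro Λ _ _ ρ hT x
  refine h Λ (ρ.comp e.symm.toMonoidHom) ?_ x
  intro y hy
  obtain ⟨T, h1, h2, h3, d, hd, h4⟩ := hT y hy
  have e1 : T ≃* T.map e.toMonoidHom := T.equivMapOfInjective e.toMonoidHom e.injective
  have hcT : Nat.card (T.map e.toMonoidHom) = Nat.card T := (Nat.card_congr e1.toEquiv).symm
  have hcX : Nat.card Y = Nat.card X := (Nat.card_congr e.toEquiv).symm
  have hk : Nat.card (ConjClasses (T.map e.toMonoidHom)) = Nat.card (ConjClasses T) := by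
    refine (Nat.card_congr ⟨ConjClasses.map e1.toMonoidHom, ConjClasses.map e1.symm.toMonoidHom, ?_, ?_⟩).symm
    · intro a
      induction a using Quotient.inductionOn with
      | _ g => exact congrArg ConjClasses.mk (e1.symm_apply_apply g)
    · intro a
      induction a using Quotient.inductionOn with
      | _ g => exact congrArg ConjClasses.mk (e1.apply_symm_apply g)
  refine ⟨T.map e.toMonoidHom, ?_, ?_, ?_, d, hd, ?_⟩
  · intro g
    show g ∈ T.map e.toMonoidHom ↔ ρ (e.symm g) y = y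
    rw [← h1, mem_map]
    constructor
    · rintro ⟨t, ht, rfl⟩
      rw [show e.symm (e.toMonoidHom t) = t from e.symm_apply_apply t]
      exact ht
    · intro ht
      exact ⟨_, ht, e.apply_symm_apply g⟩
  · intro h5
    apply h2
    have h6 : (T.map e.toMonoidHom).comap e.toMonoidHom = ⊤ := by rw [h5, comap_top]
    rwa [comap_map_eq_self_of_injective e.injective] at h6
  · rw [hcX, hcT, hk]
    exact h3
  · rw [index_map_of_bijective e.bijective]
    exact h4

namespace He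

open Cfsg.Agent.SporadicB.HePerm Cfsg.Agent.FixBN.HeStab Cfsg.Agent.KFacts.He.Lv Cfsg.Agent.CpAutHe.Cnt
open Cfsg.Agent.H19.Odd Cfsg.Agent.H19.Odd.HeEl Cfsg.Agent.H19.Odd.HeCnt
open Cfsg.Agent.H147.Fpr.He (finG simpleG)

/-- the lower bound for the modules -/
theorem big_he (hsq : ∀ (V : Type u) [CommGroup V] [Finite V] (ρ : Cfsg.Spor.He →* MulAut V), (∀ x : V, x ^ 2 = 1) →
      ∃ f : ℕ, Nat.card {x : V // ∏ k ∈ Finset.range 7, ρ (wd XC ^ k) x = 1} = f * f)
    {V : Type u} [CommGroup V] [Finite V] (ρ : Cfsg.Spor.He →* MulAut V) {r : ℕ} (hr : r.Prime)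
    (hV : ∀ x : V, x ^ r = 1) (hV1 : 1 < Nat.card V) (hno : ∀ x : V, x ≠ 1 → ∃ g, ρ g x ≠ x) :
    718232 ^ 2 ≤ Nat.card V := by
  have := simpleG
  -- the kernel is trivial
  have hker : ρ.ker = ⊥ := by
    rcases (inferInstance : ρ.ker.Normal).eq_bot_or_eq_top with h | h
    · exact h
    · exfalso
      rw [Finite.one_lt_card_iff_nontrivial] at hV1
      obtain ⟨x, hx⟩ := exists_ne (1 : V)
      obtain ⟨g, hg⟩ := hno x hx
      apply hg
      have h1 : g ∈ ρ.ker := by rw [h]; exact mem_top g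
      rw [MonoidHom.mem_ker] at h1
      rw [h1]; rfl
  have hne : ∀ y : Cfsg.Spor.He, y ≠ 1 → ∃ x, ρ y x ≠ x := by
    intro y hy
    by_contra hcon
    push Not at hcon
    apply hy
    have h1 : y ∈ ρ.ker := by
      rw [MonoidHom.mem_ker]
      ext x
      exact hcon x
    rw [hker] at h1
    exact mem_bot.1 h1
  have hX17 : wd Cfsg.Agent.H968.Gen.He.X17 ^ 17 = (1 : Cfsg.Spor.He) := pow_of_chk (by decide +kernel)
  refine big ρ C_pow U7_pow C_U7 C_V7 U7_V7 hX17 hr hV (hne _ C_ne) (hne _ ?_) ?_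
  · exact Cfsg.Agent.H547.SelfCent.HeRow.ne_one_of_act 0 (by decide +kernel)
  · rintro rfl
    exact hsq V ρ hV

/-- **`Chief` for the Held group** (from the two generating conjugates and the squares) -/
theorem chief_of (hgen : ∀ a ∈ RL, ∃ g h : Cfsg.Spor.He, closure ({g * a * g⁻¹, h * a * h⁻¹} : Set Cfsg.Spor.He) = ⊤)
    (hsq : ∀ (V : Type u) [CommGroup V] [Finite V] (ρ : Cfsg.Spor.He →* MulAut V), (∀ x : V, x ^ 2 = 1) →
      ∃ f : ℕ, Nat.card {x : V // ∏ k ∈ Finset.range 7, ρ (wd XC ^ k) x = 1} = f * f) (D : Set ℕ) :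
    Chief.{u} 2 D Cfsg.Spor.He := by
  classical
  have := finG
  have hcard : RL.toFinset.card ≤ 8 := (List.toFinset_card_le RL).trans (by simp [RL])
  refine chief_of_count (X := Cfsg.Spor.He) RL.toFinset 89779 ?_ ?_ ?_
  · intro T _ h
    obtain ⟨h1, a, ha, h2⟩ := H219.S8.He.hT T h
    exact ⟨h1, a, List.mem_toFinset.2 ha, h2⟩
  · intro a ha
    exact hgen a (List.mem_toFinset.1 ha)
  · intro r hr V _ _ ρ hV hV1 hno
    refine le_trans ?_ (big_he hsq ρ hr hV hV1 hno)
    exact Nat.pow_le_pow_left ((Nat.mul_le_mul_right _ hcard).trans (by norm_num)) 2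

/-- **The piece `FROB` of the row `He`** -/
theorem chief {X : Type v} [Group X] (B : Cfsg.Agent.H940.Eng.Base) (hX : Cfsg.Spor.IsoHe X)
    (D : Set ℕ) : Chief.{u} 2 D X := by
  obtain ⟨e⟩ := hX
  refine chief_congr e (chief_of (H687.S8.HeGen.gen2 B) ?_ D)
  intro V _ _ ρ hV
  refine H128.S8.sq_two ρ hV (p := 7) (by norm_num) (by norm_num) (z := wd XC) (t := wd T7c) C_pow ?_ invC.2
  rw [← invC.1]
  exact pow_orderOf_eq_one _

end He

end Cfsg.Agent.H584.S8
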