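import Cfsg.Agent.H704.S8.Defs

/-!
# S4908: `Chief` by counting

* `lt_of_count` : if all stabilisers of nontrivial elements of `V` have index `≤ B` and contain a conjugate of an element
  of `R`, and two conjugates of every `a ∈ R` generate `X`, then `|V| < (|R| B) ^ 2`;
* `chief_of_count` : `Chief` if the modules are larger;
* `wielandt` : `|[V, z]| = ∏ |C_{[V, z]}(u z ^ i)|` for an elementary abelian group `⟨z, u⟩` of order `p ^ 2`;
* `exists_pow` : `|V : C_V(y)| = r ^ j ≡ 1` modulo the order of `y`.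
-/

set_option autoImplicit false

namespace Cfsg.Agent.H584.S8

open Subgroup Cfsg Cfsg.Agent.H704.S8

universe u v

section fx

variable {X : Type v} [Group X] {V : Type u} [CommGroup V]

/-- the fixed points of `a` -/
def fx (ρ : X →* MulAut V) (a : X) : Subgroup V where
  carrier := {x | ρ a x = x}
  one_mem' := map_one _
  mul_mem' := by
    intro x y hx hy
    show ρ a (x * y) = x * y
    rw [map_mul, hx, hy]
  inv_mem' := by
    intro x hx
    show ρ a x⁻¹ = x⁻¹
    rw [map_inv, hx]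

theorem mem_fx {ρ : X →* MulAut V} {a : X} {x : V} : x ∈ fx ρ a ↔ ρ a x = x := Iff.rfl

theorem ap_mul (ρ : X →* MulAut V) (a b : X) (x : V) : ρ (a * b) x = ρ a (ρ b x) := by
  rw [map_mul]; rfl

theorem ap_inv (ρ : X →* MulAut V) (a : X) (x : V) : ρ a⁻¹ (ρ a x) = x := by
  rw [← ap_mul, inv_mul_cancel, map_one]; rfl

theorem ap_inv' (ρ : X →* MulAut V) (a : X) (x : V) : ρ a (ρ a⁻¹ x) = x := by
  rw [← ap_mul, mul_inv_cancel, map_one]; rfl

theorem card_fx_conj (ρ : X →* MulAut V) (a g : X) : Nat.card (fx ρ (g * a * g⁻¹)) = Nat.card (fx ρ a) := by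
  refine Nat.card_congr ⟨fun x => ⟨ρ g⁻¹ x, ?_⟩, fun x => ⟨ρ g x, ?_⟩, fun x => Subtype.ext (ap_inv' ρ g x),
    fun x => Subtype.ext (ap_inv ρ g x)⟩
  · have h : ρ (g * a * g⁻¹) x = x := x.2
    rw [mem_fx]
    conv_rhs => rw [← h]
    rw [ap_mul, ap_mul, ap_inv]
  · have h : ρ a x = x := x.2
    rw [mem_fx, ap_mul, ap_mul, ap_inv, h]

/-- the stabiliser of an element of `V` -/
def st (ρ : X →* MulAut V) (x : V) : Subgroup X where
  carrier := {g | ρ g x = x}
  one_mem' := by show ρ 1 x = x; rw [map_one]; rfl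
  mul_mem' := by
    intro g h hg hh
    show ρ (g * h) x = x
    rw [ap_mul, hh, hg]
  inv_mem' := by
    intro g hg
    show ρ g⁻¹ x = x
    conv_lhs => rw [← show ρ g x = x from hg]
    exact ap_inv ρ g x

theorem mem_st {ρ : X →* MulAut V} {x : V} {g : X} : g ∈ st ρ x ↔ ρ g x = x := Iff.rfl

/-- two elements generating `X` : the fixed points are small -/
theorem mul_le_of_gen [Finite V] (ρ : X →* MulAut V) (hno : ∀ x : V, x ≠ 1 → ∃ g, ρ g x ≠ x) {a b : X}
    (h : closure ({a, b} : Set X) = ⊤) : Nat.card (fx ρ a) * Nat.card (fx ρ b) ≤ Nat.card V := by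
  rw [← Nat.card_prod]
  refine Nat.card_le_card_of_injective _ (Subgroup.mul_injective_of_disjoint (H₁ := fx ρ a) (H₂ := fx ρ b) ?_)
  rw [Subgroup.disjoint_def]
  intro x hx hy
  by_contra hx1
  obtain ⟨g, hg⟩ := hno x hx1
  apply hg
  have : closure ({a, b} : Set X) ≤ st ρ x := by
    rw [closure_le]
    rintro c (rfl | rfl)
    · exact hx
    · exact hy
  rw [h] at this
  exact this (mem_top g)

theorem card_orbit_le [Finite X] [Finite V] (ρ : X →* MulAut V) (x : V) :
    (Set.range fun g : X => ρ g x).ncard ≤ (st ρ x).index := by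
  classical
  let f : X ⧸ st ρ x → V := Quotient.lift (fun g : X => ρ g x) (by
    intro a b hab
    rw [← Quotient.eq_iff_equiv, QuotientGroup.eq] at hab
    have h1 : ρ (a⁻¹ * b) x = x := hab
    show ρ a x = ρ b x
    conv_lhs => rw [← h1]
    rw [← ap_mul, mul_inv_cancel_left])
  have h2 : (Set.range fun g : X => ρ g x) ⊆ Set.range f := by
    rintro _ ⟨g, rfl⟩
    exact ⟨(g : X ⧸ st ρ x), rfl⟩
  refine (Set.ncard_le_ncard h2 (Set.toFinite _)).trans ?_
  rw [← Set.image_univ]
  refine (Set.ncard_image_le (Set.toFinite _)).trans ?_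
  rw [Set.ncard_univ]
  exact le_rfl

/-- **The count.** -/
theorem lt_of_count [Finite X] [Finite V] (ρ : X →* MulAut V) (R : Finset X) (B : ℕ)
    (hB : ∀ x : V, x ≠ 1 → (st ρ x).index ≤ B ∧ ∃ a ∈ R, ∃ g : X, g * a * g⁻¹ ∈ st ρ x)
    (hno : ∀ x : V, x ≠ 1 → ∃ g, ρ g x ≠ x)
    (hgen : ∀ a ∈ R, ∃ g h : X, closure ({g * a * g⁻¹, h * a * h⁻¹} : Set X) = ⊤) (hV : 1 < Nat.card V) :
    Nat.card V < (R.card * B) ^ 2 := by
  classical
  have := Fintype.ofFinite V
  have := Fintype.ofFinite X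
  set s := Nat.sqrt (Nat.card V) with hs
  have hs2 : s * s ≤ Nat.card V := Nat.sqrt_le _
  have hs1 : 1 ≤ s := by
    rw [hs, Nat.le_sqrt]
    omega
  -- the fixed points
  have hF : ∀ a ∈ R, Nat.card (fx ρ a) ≤ s := by
    intro a ha
    obtain ⟨g, h, hgh⟩ := hgen a ha
    have h1 := mul_le_of_gen ρ hno hgh
    rw [card_fx_conj, card_fx_conj] at h1
    rw [hs, Nat.le_sqrt]
    exact h1
  let F : X → Finset V := fun a => Finset.univ.filter fun x => x ≠ 1 ∧ ρ a x = x
  have hFc : ∀ a ∈ R, (F a).card ≤ s - 1 := by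
    intro a ha
    have h1 : insert (1 : V) (F a) = Finset.univ.filter fun x => ρ a x = x := by
      ext x
      simp only [F, Finset.mem_insert, Finset.mem_filter, Finset.mem_univ, true_and]
      constructor
      · rintro (rfl | h)
        · exact map_one _
        · exact h.2
      · intro h
        by_cases hx : x = 1
        · exact Or.inl hx
        · exact Or.inr ⟨hx, h⟩
    have h2 : (Finset.univ.filter fun x => ρ a x = x).card = Nat.card (fx ρ a) := by
      rw [Nat.card_eq_fintype_card, ← Fintype.card_subtype]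
      rfl
    have h3 : (insert (1 : V) (F a)).card = (F a).card + 1 := Finset.card_insert_of_notMem (by simp [F])
    have h4 := hF a ha
    rw [← h2, ← h1, h3] at h4
    omega
  let O : V → Finset V := fun x => Finset.univ.image fun g : X => ρ g x
  have hO : ∀ x : V, x ≠ 1 → (O x).card ≤ B := by
    intro x hx
    refine le_trans ?_ (hB x hx).1
    refine le_trans (le_of_eq ?_) (card_orbit_le ρ x)
    rw [← Set.ncard_coe_finset]
    congr 1
    simp [O]
  have hsub : Finset.univ.erase (1 : V) ⊆ R.biUnion fun a => (F a).biUnion O := by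
    intro x hx
    have hx1 : x ≠ 1 := (Finset.mem_erase.1 hx).1
    obtain ⟨-, a, ha, g, hg⟩ := hB x hx1
    rw [Finset.mem_biUnion]
    refine ⟨a, ha, ?_⟩
    rw [Finset.mem_biUnion]
    have h1 : ρ a (ρ g⁻¹ x) = ρ g⁻¹ x := by
      have h2 : ρ (g * a * g⁻¹) x = x := hg
      conv_rhs => rw [← h2]
      rw [ap_mul, ap_mul, ap_inv]
    refine ⟨ρ g⁻¹ x, ?_, ?_⟩
    · simp only [F, Finset.mem_filter, Finset.mem_univ, true_and]
      refine ⟨fun h => hx1 ?_, h1⟩
      exact (map_eq_one_iff _ (ρ g⁻¹).injective).1 h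
    · simp only [O, Finset.mem_image, Finset.mem_univ, true_and]
      exact ⟨g, ap_inv' ρ g x⟩
  have hcount : Nat.card V - 1 ≤ R.card * ((s - 1) * B) := by
    have h1 : (Finset.univ.erase (1 : V)).card = Nat.card V - 1 := by
      rw [Finset.card_erase_of_mem (Finset.mem_univ _), Finset.card_univ, Nat.card_eq_fintype_card]
    rw [← h1]
    refine (Finset.card_le_card hsub).trans ?_
    refine Finset.card_biUnion_le_card_mul _ _ _ fun a ha => ?_
    refine (Finset.card_biUnion_le_card_mul _ _ B fun x hx => ?_).trans (Nat.mul_le_mul_right _ (hFc a ha))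
    exact hO x (Finset.mem_filter.1 hx).2.1
  -- arithmetic
  set m := R.card * B with hm
  have h1 : Nat.card V - 1 ≤ m * (s - 1) := by
    refine hcount.trans (le_of_eq ?_)
    rw [hm]
    ring
  obtain ⟨k, hk⟩ : ∃ k, s = k + 1 := ⟨s - 1, by omega⟩
  rw [hk, Nat.add_sub_cancel] at h1
  rw [hk] at hs2
  have hk0 : 0 < k := by
    rcases Nat.eq_zero_or_pos k with h0 | h0
    · rw [h0, mul_zero] at h1
      omega
    · exact h0
  have h2 : k * (k + 2) ≤ m * k := by
    refine le_trans ?_ h1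
    have : k * (k + 2) + 1 = (k + 1) * (k + 1) := by ring
    omega
  have h3 : k + 2 ≤ m := Nat.le_of_mul_le_mul_left (by rw [mul_comm m k] at h2; exact h2) hk0
  have h4 : m * k + 2 * m ≤ m * m := by
    calc m * k + 2 * m = m * (k + 2) := by ring
      _ ≤ m * m := Nat.mul_le_mul_left _ h3
  rw [pow_two]
  omega

end fx

/-! ### reduction to elementary abelian groups -/

/-- it is enough to treat elementary abelian groups -/
theorem chief_of_elem {c : ℕ} {D : Set ℕ} {X : Type v} [Group X]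
    (h : ∀ (r : ℕ), r.Prime → ∀ (V : Type u) [CommGroup V] [Finite V] (ρ : X →* MulAut V), (∀ x : V, x ^ r = 1) →
      1 < Nat.card V →
      (∀ x : V, x ≠ 1 → ∃ T : Subgroup X, (∀ g : X, g ∈ T ↔ ρ g x = x) ∧ T ≠ ⊤ ∧
        Nat.card X < c * (Nat.card T * Nat.card (ConjClasses T)) ∧ ∃ d ∈ D, T.index ∣ d) → False) : Chief.{u} c D X := by
  intro Λ _ _ ρ hT x
  by_contra hx
  obtain ⟨r, hr, hd⟩ := Nat.exists_prime_and_dvd (fun h1 => hx (orderOf_eq_one_iff.1 h1) : orderOf x ≠ 1)
  let V : Subgroup Λ := (powMonoidHom r : Λ →* Λ).ker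
  have hmem : ∀ (g : X) (y : V), ρ g y ∈ V := by
    intro g y
    have h1 : (y : Λ) ^ r = 1 := y.2
    show (ρ g y) ^ r = 1
    rw [← map_pow, h1, map_one]
  let ρ' : X →* MulAut V :=
    { toFun := fun g =>
        { toFun := fun y => ⟨ρ g y, hmem g y⟩
          invFun := fun y => ⟨ρ g⁻¹ y, hmem g⁻¹ y⟩
          left_inv := fun y => Subtype.ext (ap_inv ρ g y)
          right_inv := fun y => Subtype.ext (ap_inv' ρ g y)
          map_mul' := fun y z => Subtype.ext (map_mul (ρ g) (y : Λ) z) }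
      map_one' := by
        ext y
        show ρ 1 (y : Λ) = y
        rw [map_one]; rfl
      map_mul' := by
        intro g k
        ext y
        exact ap_mul ρ g k y }
  refine h r hr V ρ' (fun y => Subtype.ext y.2) ?_ ?_
  · have hne : x ^ (orderOf x / r) ≠ 1 := by
      intro h1
      have h2 := orderOf_dvd_of_pow_eq_one h1
      have h3 := Nat.le_of_dvd (Nat.div_pos (Nat.le_of_dvd (orderOf_pos x) hd) hr.pos) h2
      have h4 := Nat.div_lt_self (orderOf_pos x) hr.one_lt
      omega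
    have hv : x ^ (orderOf x / r) ∈ V := by
      show (x ^ (orderOf x / r)) ^ r = 1
      rw [← pow_mul, Nat.div_mul_cancel hd, pow_orderOf_eq_one]
    rw [Finite.one_lt_card_iff_nontrivial]
    exact ⟨⟨⟨_, hv⟩, 1, fun h1 => hne (congrArg Subtype.val h1)⟩⟩
  · intro y hy
    obtain ⟨T, hT1, hT2⟩ := hT y fun h1 => hy (Subtype.ext h1)
    refine ⟨T, fun g => (hT1 g).trans ?_, hT2⟩
    exact ⟨fun h1 => Subtype.ext h1, fun h1 => congrArg Subtype.val h1⟩

/-- **`Chief` by counting.** -/
theorem chief_of_count {c : ℕ} {D : Set ℕ} {X : Type v} [Group X] [Finite X] (R : Finset X) (B : ℕ)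
    (hB : ∀ T : Subgroup X, T ≠ ⊤ → Nat.card X < c * (Nat.card T * Nat.card (ConjClasses T)) →
      T.index ≤ B ∧ ∃ a ∈ R, ∃ g : X, g * a * g⁻¹ ∈ T)
    (hgen : ∀ a ∈ R, ∃ g h : X, closure ({g * a * g⁻¹, h * a * h⁻¹} : Set X) = ⊤)
    (hbig : ∀ (r : ℕ), r.Prime → ∀ (V : Type u) [CommGroup V] [Finite V] (ρ : X →* MulAut V), (∀ x : V, x ^ r = 1) →
      1 < Nat.card V → (∀ x : V, x ≠ 1 → ∃ g, ρ g x ≠ x) → (R.card * B) ^ 2 ≤ Nat.card V) : Chief.{u} c D X := by
  refine chief_of_elem fun r hr V _ _ ρ hVr hV hT => ?_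
  have hno : ∀ x : V, x ≠ 1 → ∃ g, ρ g x ≠ x := by
    intro x hx
    obtain ⟨T, hT1, hT2, -⟩ := hT x hx
    by_contra hcon
    push Not at hcon
    exact hT2 (eq_top_iff.2 fun g _ => (hT1 g).2 (hcon g))
  refine absurd (lt_of_count ρ R B ?_ hno hgen hV) (not_lt.2 (hbig r hr V ρ hVr hV hno))
  intro x hx
  obtain ⟨T, hT1, hT2, hT3, -⟩ := hT x hx
  have e : st ρ x = T := by
    ext g
    exact (hT1 g).symm
  rw [e]
  exact hB T hT2 hT3

/-! ### Lower bounds -/

section low

variable {X : Type v} [Group X] {V : Type u} [CommGroup V]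

theorem card_modEq [Finite V] (ρ : X →* MulAut V) {q : ℕ} [Fact q.Prime] {y : X} (hy : y ^ q = 1) :
    Nat.card V ≡ Nat.card (fx ρ y) [MOD q] := by
  let _ : MulAction (zpowers y) V := MulAction.compHom V (ρ.comp (zpowers y).subtype)
  have hP : IsPGroup q (zpowers y) := by
    rintro ⟨a, ha⟩
    obtain ⟨k, rfl⟩ := mem_zpowers_iff.1 ha
    refine ⟨1, Subtype.ext ?_⟩
    show (y ^ k) ^ q ^ 1 = 1
    rw [pow_one, ← zpow_natCast, ← zpow_mul, mul_comm, zpow_mul, zpow_natCast, hy, one_zpow]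
  have h1 := hP.card_modEq_card_fixedPoints V
  have h2 : MulAction.fixedPoints (zpowers y) V = (fx ρ y : Set V) := by
    ext x
    constructor
    · intro h
      exact h ⟨y, mem_zpowers y⟩
    · intro h
      rintro ⟨a, ha⟩
      have : zpowers y ≤ st ρ x := by
        rw [zpowers_le]
        exact h
      exact this ha
  rw [h2] at h1
  exact h1

theorem card_eq_pow [Finite V] {r : ℕ} (hr : r.Prime) (hV : ∀ x : V, x ^ r = 1) (W : Subgroup V) :
    ∃ n, Nat.card W = r ^ n := by
  have : Fact r.Prime := ⟨hr⟩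
  have hP : IsPGroup r W := fun x => ⟨1, Subtype.ext (by
    show (x : V) ^ r ^ 1 = 1
    rw [pow_one]
    exact hV x)⟩
  exact IsPGroup.iff_card.1 hP

/-- the order of `V : C_V(y)` -/
theorem exists_pow [Finite V] (ρ : X →* MulAut V) {q r : ℕ} [Fact q.Prime] (hr : r.Prime) (hqr : q ≠ r)
    (hV : ∀ x : V, x ^ r = 1) {y : X} (hy : y ^ q = 1) (W : Subgroup V) (hW : ∀ x ∈ W, ρ y x ∈ W)
    (hne : ∃ x ∈ W, ρ y x ≠ x) : ∃ j, 0 < j ∧ r ^ j ≡ 1 [MOD q] ∧ r ^ j ∣ Nat.card W := by
  classical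
  -- the action on `W`
  have hWz : ∀ k : ℕ, ∀ x ∈ W, ρ (y ^ k) x ∈ W := by
    intro k
    induction k with
    | zero => intro x hx; rw [pow_zero, map_one]; exact hx
    | succ k ih => intro x hx; rw [pow_succ, ap_mul]; exact ih _ (hW x hx)
  let ρ' : zpowers y →* MulAut W :=
    { toFun := fun g =>
        { toFun := fun x => ⟨ρ g x, by
            obtain ⟨k, hk⟩ : ∃ k : ℕ, y ^ k = (g : X) := by
              have := g.2
              have ho : IsOfFinOrder y := isOfFinOrder_iff_pow_eq_one.2 ⟨q, (Fact.out : q.Prime).pos, hy⟩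
              rw [← ho.mem_powers_iff_mem_zpowers] at this
              exact this
            rw [← hk]
            exact hWz k x x.2⟩
          invFun := fun x => ⟨ρ (g : X)⁻¹ x, by
            obtain ⟨k, hk⟩ : ∃ k : ℕ, y ^ k = ((g⁻¹ : zpowers y) : X) := by
              have := (g⁻¹).2
              have ho : IsOfFinOrder y := isOfFinOrder_iff_pow_eq_one.2 ⟨q, (Fact.out : q.Prime).pos, hy⟩
              rw [← ho.mem_powers_iff_mem_zpowers] at this
              exact this
            have h2 : (g : X)⁻¹ = y ^ k := by rw [hk]; rfl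
            rw [h2]
            exact hWz k x x.2⟩
          left_inv := fun x => Subtype.ext (ap_inv ρ (g : X) x)
          right_inv := fun x => Subtype.ext (ap_inv' ρ (g : X) x)
          map_mul' := fun x z => Subtype.ext (map_mul (ρ (g : X)) (x : V) z) }
      map_one' := by
        ext x
        show ρ ((1 : zpowers y) : X) (x : V) = x
        rw [OneMemClass.coe_one, map_one]; rfl
      map_mul' := by
        intro g k
        ext x
        exact ap_mul ρ (g : X) (k : X) x }
  have h1 := card_modEq ρ' (q := q) (y := ⟨y, mem_zpowers y⟩) (Subtype.ext hy)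
  set C := fx ρ' ⟨y, mem_zpowers y⟩ with hC
  obtain ⟨a, ha⟩ := card_eq_pow hr (V := W) (fun x => Subtype.ext (hV x)) C
  obtain ⟨b, hb⟩ := card_eq_pow hr hV W
  have hCne : C ≠ ⊤ := by
    obtain ⟨x, hx, hx2⟩ := hne
    intro h
    have h2 : (⟨x, hx⟩ : W) ∈ C := by rw [h]; exact mem_top _
    exact hx2 (congrArg Subtype.val h2)
  have hdvd := card_subgroup_dvd_card C
  rw [ha, hb] at hdvd
  have hab : a ≤ b := (Nat.pow_dvd_pow_iff_le_right hr.one_lt).1 hdvd
  have hab2 : a ≠ b := by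
    rintro rfl
    exact hCne ((card_eq_iff_eq_top C).1 (ha.trans hb.symm))
  refine ⟨b - a, by omega, ?_, ?_⟩
  · rw [ha, hb] at h1
    have h2 : r ^ b = r ^ a * r ^ (b - a) := by rw [← pow_add]; congr 1; omega
    rw [h2] at h1
    have hcop : Nat.Coprime q (r ^ a) := ((Nat.coprime_primes Fact.out hr).2 hqr).pow_right a
    have h3 : r ^ a * r ^ (b - a) ≡ r ^ a * 1 [MOD q] := by rw [mul_one]; exact h1
    exact Nat.ModEq.cancel_left_of_coprime hcop h3
  · rw [hb]
    exact pow_dvd_pow r (by omega)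

end low

end Cfsg.Agent.H584.S8
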