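import Cfsg.Agent.H968.Gen.He
import Cfsg.Agent.H584.S8.Count

/-!
# S4908, the Held group: representatives of the elements of order 5, 7, 17
-/

set_option autoImplicit false
set_option maxRecDepth 100000

namespace Cfsg.Agent.H584.S8.He

open Cfsg.Agent.SporadicB.HePerm Cfsg.Agent.FixBN.HeStab Cfsg.Agent.KFacts.He.Lv Cfsg.Agent.CpAutHe.Cnt
open Cfsg.Agent.H19.Odd Cfsg.Agent.H19.Odd.HeEl Cfsg.Agent.H19.Odd.HeCnt

/-- every subgroup of order 5, 7, 17 is conjugate to a subgroup generated by one of them -/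
def RL : List Cfsg.Spor.He := [wd XC, wd U7, wd (V7 ++ pw U7 1), wd (V7 ++ pw U7 2), wd (V7 ++ pw U7 4),
  wd (V7 ++ pw U7 6), wd Cfsg.Agent.H436.HeFive.X, wd Cfsg.Agent.H968.Gen.He.X17]

end Cfsg.Agent.H584.S8.He
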