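import Cfsg.Agent.H584.S8.Count

/-!
# Wielandt's formula for an elementary abelian group of order `p ^ 2` acting coprimely
-/

set_option autoImplicit false

namespace Cfsg.Agent.H584.S8

open Subgroup

universe u v

section wiel

variable {V : Type u} [CommGroup V] {p : ℕ} [Fact p.Prime] (α : ZMod p × ZMod p → MulAut V)

/-- the norm of the cyclic group generated by `a` -/
noncomputable def nm (a : ZMod p × ZMod p) : V →* V where
  toFun x := ∏ k : ZMod p, α (k • a) x
  map_one' := by simp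
  map_mul' := by intro x y; simp [Finset.prod_mul_distrib]

theorem nm_apply (a : ZMod p × ZMod p) (x : V) : nm α a x = ∏ k : ZMod p, α (k • a) x := rfl

variable {α}

theorem nm_fix (hα : ∀ a b, α (a + b) = α a * α b) (a : ZMod p × ZMod p) (l : ZMod p) (x : V) :
    α (l • a) (nm α a x) = nm α a x := by
  rw [nm_apply, map_prod]
  have h1 : ∀ k : ZMod p, α (l • a) (α (k • a) x) = α ((l + k) • a) x := by
    intro k
    rw [add_smul, hα]
    rfl
  rw [Finset.prod_congr rfl fun k _ => h1 k]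
  exact Equiv.prod_comp (Equiv.addLeft l) fun k => α (k • a) x

theorem nm_of_fix {a : ZMod p × ZMod p} {x : V} (h : ∀ k : ZMod p, α (k • a) x = x) : nm α a x = x ^ p := by
  rw [nm_apply, Finset.prod_congr rfl fun k _ => h k, Finset.prod_const, Finset.card_univ, ZMod.card]

theorem nm_nm (hα : ∀ a b, α (a + b) = α a * α b) {a b : ZMod p × ZMod p}
    (hab : Function.Injective fun kl : ZMod p × ZMod p => kl.1 • a + kl.2 • b) (x : V) :
    nm α a (nm α b x) = ∏ c : ZMod p × ZMod p, α c x := by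
  have hbij := Finite.injective_iff_bijective.1 hab
  rw [← hbij.prod_comp fun c => α c x, Fintype.prod_prod_type, nm_apply]
  refine Finset.prod_congr rfl fun k _ => ?_
  rw [nm_apply, map_prod]
  refine Finset.prod_congr rfl fun l _ => ?_
  rw [hα]
  rfl

theorem inj_aux {i j : ZMod p} (hij : i ≠ j) :
    Function.Injective fun kl : ZMod p × ZMod p => kl.1 • ((1, i) : ZMod p × ZMod p) + kl.2 • (1, j) := by
  rintro ⟨k, l⟩ ⟨k', l'⟩ h
  simp only [Prod.smul_mk, smul_eq_mul, mul_one, Prod.mk_add_mk, Prod.mk.injEq] at h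
  obtain ⟨h1, h2⟩ := h
  have h3 : (i - j) * (k - k') = 0 := by linear_combination h2 - j * h1
  have h4 : k = k' := by
    rcases mul_eq_zero.1 h3 with h5 | h5
    · exact absurd (sub_eq_zero.1 h5) hij
    · exact sub_eq_zero.1 h5
  rw [h4] at h1
  rw [h4, add_left_cancel h1]

theorem inj_aux' (i : ZMod p) :
    Function.Injective fun kl : ZMod p × ZMod p => kl.1 • ((1, i) : ZMod p × ZMod p) + kl.2 • (0, 1) := by
  rintro ⟨k, l⟩ ⟨k', l'⟩ h
  simp only [Prod.smul_mk, smul_eq_mul, mul_one, mul_zero, Prod.mk_add_mk, Prod.mk.injEq, add_zero] at h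
  obtain ⟨rfl, h2⟩ := h
  rw [add_left_cancel h2]

/-- the identity of the permutation characters -/
theorem ident (hα : ∀ a b, α (a + b) = α a * α b) (x : V) :
    (∏ i : ZMod p, nm α (1, i) x) * nm α (0, 1) x = x ^ p * ∏ c : ZMod p × ZMod p, α c x := by
  classical
  have h0 : α 0 = 1 := by
    have := hα 0 0
    rw [add_zero] at this
    exact (mul_eq_left.1 this.symm)
  have e1 : (∏ i : ZMod p, nm α (1, i) x) = ∏ k : ZMod p, ∏ i : ZMod p, α (k, k * i) x := by
    rw [Finset.prod_comm]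
    refine Finset.prod_congr rfl fun i _ => ?_
    rw [nm_apply]
    refine Finset.prod_congr rfl fun k _ => ?_
    simp
  have e2 : (∏ c : ZMod p × ZMod p, α c x) = ∏ k : ZMod p, ∏ l : ZMod p, α (k, l) x := by
    rw [Fintype.prod_prod_type]
  have e3 : ∀ k ∈ Finset.univ.erase (0 : ZMod p), ∏ i : ZMod p, α (k, k * i) x = ∏ l : ZMod p, α (k, l) x := by
    intro k hk
    have hk0 : k ≠ 0 := (Finset.mem_erase.1 hk).1
    exact Equiv.prod_comp (Equiv.mulLeft₀ k hk0) fun l => α (k, l) x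
  rw [e1, e2, ← Finset.mul_prod_erase _ _ (Finset.mem_univ (0 : ZMod p)),
    ← Finset.mul_prod_erase _ (fun k => ∏ l : ZMod p, α (k, l) x) (Finset.mem_univ (0 : ZMod p)),
    Finset.prod_congr rfl e3]
  have e4 : (∏ i : ZMod p, α ((0 : ZMod p), 0 * i) x) = x ^ p := by
    have : ∀ i : ZMod p, α ((0 : ZMod p), 0 * i) x = x := by
      intro i
      rw [zero_mul]
      show α 0 x = x
      rw [h0]; rfl
    rw [Finset.prod_congr rfl fun i _ => this i, Finset.prod_const, Finset.card_univ, ZMod.card]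
  have e5 : nm α (0, 1) x = ∏ l : ZMod p, α ((0 : ZMod p), l) x := by
    rw [nm_apply]
    refine Finset.prod_congr rfl fun l _ => ?_
    simp
  rw [e4, e5]
  ac_rfl

/-- the part of `[V, z]` fixed by `u z ^ i` -/
def Wi (α : ZMod p × ZMod p → MulAut V) (i : ZMod p) : Subgroup V where
  carrier := {x | nm α (0, 1) x = 1 ∧ ∀ k : ZMod p, α (k • (1, i)) x = x}
  one_mem' := ⟨map_one _, fun k => map_one _⟩
  mul_mem' := by
    rintro x y ⟨hx, hx2⟩ ⟨hy, hy2⟩
    exact ⟨by rw [map_mul, hx, hy, one_mul], fun k => by rw [map_mul, hx2, hy2]⟩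
  inv_mem' := by
    rintro x ⟨hx, hx2⟩
    exact ⟨by rw [map_inv, hx, inv_one], fun k => by rw [map_inv, hx2]⟩

theorem wielandt (hα : ∀ a b, α (a + b) = α a * α b) {r : ℕ} (hr : r.Prime) (hpr : p ≠ r)
    (hV : ∀ x : V, x ^ r = 1) : Nat.card (nm α (0, 1)).ker = ∏ i : ZMod p, Nat.card (Wi α i) := by
  classical
  have hcop : Nat.Coprime p r := (Nat.coprime_primes Fact.out hr).2 hpr
  obtain ⟨m, -, hm⟩ := Nat.exists_mul_mod_eq_one_of_coprime hcop hr.one_lt
  have hpm : ∀ x : V, (x ^ p) ^ m = x := by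
    intro x
    rw [← pow_mul, pow_eq_pow_mod _ (hV x), hm, pow_one]
  have hinj : ∀ x : V, x ^ p = 1 → x = 1 := by
    intro x hx
    rw [← hpm x, hx, one_pow]
  -- products over the whole group
  have hA : ∀ x : V, nm α (0, 1) x = 1 → ∏ c : ZMod p × ZMod p, α c x = 1 := by
    intro x hx
    rw [← nm_nm hα (inj_aux' 0) x, hx, map_one]
  have hcomm : ∀ (a b : ZMod p × ZMod p) (x : V), nm α a (nm α b x) = nm α b (nm α a x) := by
    intro a b x
    rw [nm_apply, nm_apply, nm_apply]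
    simp only [nm_apply, map_prod]
    rw [Finset.prod_comm]
    refine Finset.prod_congr rfl fun k _ => Finset.prod_congr rfl fun l _ => ?_
    show (α (l • a) * α (k • b)) x = (α (k • b) * α (l • a)) x
    rw [← hα, ← hα, add_comm]
  let Φ : (∀ i : ZMod p, Wi α i) →* (nm α (0, 1)).ker :=
    { toFun := fun w => ⟨∏ i, (w i : V), by
        rw [MonoidHom.mem_ker, map_prod]
        exact Finset.prod_eq_one fun i _ => (w i).2.1⟩
      map_one' := Subtype.ext (by simp)
      map_mul' := fun w w' => Subtype.ext (by simp [Finset.prod_mul_distrib]) }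
  have hΦ : ∀ w, (Φ w : V) = ∏ i, (w i : V) := fun w => rfl
  rw [← Nat.card_pi]
  refine (Nat.card_congr (Equiv.ofBijective Φ ⟨?_, ?_⟩)).symm
  · rw [injective_iff_map_eq_one]
    intro w hw
    have h1 : ∏ i, (w i : V) = 1 := congrArg Subtype.val hw
    funext j
    apply Subtype.ext
    apply hinj
    have h2 : nm α (1, j) (∏ i, (w i : V)) = 1 := by rw [h1, map_one]
    rw [map_prod, ← Finset.mul_prod_erase _ _ (Finset.mem_univ j)] at h2
    have h3 : ∀ i ∈ Finset.univ.erase j, nm α (1, j) (w i : V) = 1 := by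
      intro i hi
      have hij : j ≠ i := (Finset.mem_erase.1 hi).1.symm
      apply hinj
      rw [← map_pow, ← nm_of_fix (w i).2.2, nm_nm hα (inj_aux hij)]
      exact hA _ (w i).2.1
    rw [Finset.prod_eq_one h3, mul_one, nm_of_fix (w j).2.2] at h2
    exact h2
  · rintro ⟨x, hx⟩
    have hx' : nm α (0, 1) x = 1 := hx
    refine ⟨fun i => ⟨(nm α (1, i) x) ^ m, ?_, ?_⟩, ?_⟩
    · rw [map_pow, hcomm, hx', map_one, one_pow]
    · intro k
      rw [map_pow, nm_fix hα]
    · apply Subtype.ext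
      rw [hΦ]
      show ∏ i, (nm α (1, i) x) ^ m = x
      rw [Finset.prod_pow]
      have h1 := ident hα x
      rw [hx', mul_one, hA x hx', mul_one] at h1
      rw [h1, hpm]

end wiel

section grp

variable {X : Type v} [Group X] {V : Type u} [CommGroup V] {p : ℕ} [Fact p.Prime]

theorem pow_val_add {G : Type*} [Group G] {z : G} (hz : z ^ p = 1) (a b : ZMod p) :
    z ^ (a + b).val = z ^ a.val * z ^ b.val := by
  rw [← pow_add, ZMod.val_add, ← pow_eq_pow_mod _ hz]

/-- the action of `⟨z, u⟩` -/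
noncomputable def al (ρ : X →* MulAut V) (p : ℕ) (z u : X) (a : ZMod p × ZMod p) : MulAut V :=
  ρ (u ^ a.1.val * z ^ a.2.val)

theorem al_add (ρ : X →* MulAut V) {z u : X} (hz : z ^ p = 1) (hu : u ^ p = 1) (hzu : Commute z u)
    (a b : ZMod p × ZMod p) : al ρ p z u (a + b) = al ρ p z u a * al ρ p z u b := by
  unfold al
  rw [← map_mul]
  congr 1
  rw [Prod.fst_add, Prod.snd_add, pow_val_add hz, pow_val_add hu]
  have h : Commute (z ^ a.2.val) (u ^ b.1.val) := (hzu.pow_left _).pow_right _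
  calc u ^ a.1.val * u ^ b.1.val * (z ^ a.2.val * z ^ b.2.val)
      = u ^ a.1.val * (u ^ b.1.val * z ^ a.2.val) * z ^ b.2.val := by group
    _ = u ^ a.1.val * (z ^ a.2.val * u ^ b.1.val) * z ^ b.2.val := by rw [h.eq]
    _ = u ^ a.1.val * z ^ a.2.val * (u ^ b.1.val * z ^ b.2.val) := by group

/-- the kernel of the norm of `z` -/
theorem mem_ker_nm (ρ : X →* MulAut V) {z u : X} (x : V) :
    x ∈ (nm (al ρ p z u) (0, 1)).ker ↔ ∏ k : ZMod p, ρ (z ^ k.val) x = 1 := by
  rw [MonoidHom.mem_ker, nm_apply]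
  have : ∀ k : ZMod p, al ρ p z u (k • ((0, 1) : ZMod p × ZMod p)) x = ρ (z ^ k.val) x := by
    intro k
    unfold al
    simp
  rw [Finset.prod_congr rfl fun k _ => this k]

/-- **extraspecial groups**: `|[V, z]|` is a `p`-th power -/
theorem card_ker_eq_pow [Finite V] (ρ : X →* MulAut V) {z u v : X} (hz : z ^ p = 1) (hu : u ^ p = 1)
    (hzu : Commute z u) (hzv : Commute z v) {j : ℕ} (hj : ¬ p ∣ j) (huv : u * v = v * u * z ^ j) {r : ℕ} (hr : r.Prime)
    (hpr : p ≠ r) (hV : ∀ x : V, x ^ r = 1) :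
    Nat.card (nm (al ρ p z u) (0, 1)).ker = Nat.card (Wi (al ρ p z u) 0) ^ p := by
  classical
  rw [wielandt (al_add ρ hz hu hzu) hr hpr hV]
  -- conjugation by `v`
  have hvu : v⁻¹ * u * v = u * z ^ j := by
    calc v⁻¹ * u * v = v⁻¹ * (u * v) := by group
      _ = v⁻¹ * (v * u * z ^ j) := by rw [huv]
      _ = u * z ^ j := by group
  have hvz : v⁻¹ * z * v = z := by
    rw [mul_assoc, hzv.eq, inv_mul_cancel_left]
  have key : ∀ i k : ZMod p, v⁻¹ * (u ^ (k • ((1, i) : ZMod p × ZMod p)).1.val * z ^ (k • ((1, i) : ZMod p × ZMod p)).2.val) * v =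
      u ^ (k • ((1, i + j) : ZMod p × ZMod p)).1.val * z ^ (k • ((1, i + j) : ZMod p × ZMod p)).2.val := by
    intro i k
    have e1 : v⁻¹ * (u ^ (k • ((1, i) : ZMod p × ZMod p)).1.val * z ^ (k • ((1, i) : ZMod p × ZMod p)).2.val) * v =
        (v⁻¹ * u * v) ^ (k • ((1, i) : ZMod p × ZMod p)).1.val * (v⁻¹ * z * v) ^ (k • ((1, i) : ZMod p × ZMod p)).2.val := by
      have h1 : ∀ n : ℕ, (v⁻¹ * u * v) ^ n = v⁻¹ * u ^ n * v := by
        intro n
        have := conj_pow (i := n) (a := v⁻¹) (b := u)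
        rw [inv_inv] at this
        exact this
      have h2 : ∀ n : ℕ, (v⁻¹ * z * v) ^ n = v⁻¹ * z ^ n * v := by
        intro n
        have := conj_pow (i := n) (a := v⁻¹) (b := z)
        rw [inv_inv] at this
        exact this
      rw [h1, h2]
      group
    rw [e1, hvu, hvz, (show Commute u (z ^ j) from (hzu.symm.pow_right j)).mul_pow, mul_assoc]
    simp only [Prod.smul_mk, smul_eq_mul, mul_one]
    congr 1
    rw [← pow_mul, ← pow_add, pow_eq_pow_mod _ hz, pow_eq_pow_mod (k * (i + (j : ZMod p))).val hz]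
    congr 1
    have : ((j * k.val + (k * i).val : ℕ) : ZMod p) = (((k * (i + (j : ZMod p))).val : ℕ) : ZMod p) := by
      push_cast
      rw [ZMod.natCast_val, ZMod.natCast_val, ZMod.natCast_val, ZMod.cast_id, ZMod.cast_id, ZMod.cast_id]
      ring
    exact (ZMod.natCast_eq_natCast_iff' _ _ _).1 this
  have hstep : ∀ i : ZMod p, Nat.card (Wi (al ρ p z u) (i + j)) = Nat.card (Wi (al ρ p z u) i) := by
    intro i
    have hz2 : ∀ (w : X), Commute z w → ∀ x, ∏ k : ZMod p, ρ (z ^ k.val) (ρ w x) = ρ w (∏ k : ZMod p, ρ (z ^ k.val) x) := by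
      intro w hw x
      rw [map_prod]
      refine Finset.prod_congr rfl fun k _ => ?_
      rw [← ap_mul, ← ap_mul, (hw.pow_left k.val).eq]
    refine Nat.card_congr ⟨fun x => ⟨ρ v x, ?_, ?_⟩, fun x => ⟨ρ v⁻¹ x, ?_, ?_⟩, fun x => Subtype.ext (ap_inv ρ v x),
      fun x => Subtype.ext (ap_inv' ρ v x)⟩
    · have h1 := (mem_ker_nm (p := p) ρ (u := u) (x : V)).1 x.2.1
      rw [← MonoidHom.mem_ker, mem_ker_nm, hz2 v hzv, h1, map_one]
    · intro k
      have h1 := x.2.2 k
      unfold al at h1 ⊢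
      rw [← key, ap_mul, ap_mul] at h1
      have h2 := congrArg (ρ v) h1
      rw [ap_inv'] at h2
      exact h2
    · have h1 := (mem_ker_nm (p := p) ρ (u := u) (x : V)).1 x.2.1
      rw [← MonoidHom.mem_ker, mem_ker_nm, hz2 v⁻¹ hzv.inv_right, h1, map_one]
    · intro k
      have h1 := x.2.2 k
      unfold al at h1 ⊢
      rw [← key, ap_mul, ap_mul, ap_inv', h1]
  have hj0 : (j : ZMod p) ≠ 0 := by
    rw [Ne, ZMod.natCast_eq_zero_iff]
    exact hj
  have hall : ∀ i : ZMod p, Nat.card (Wi (al ρ p z u) i) = Nat.card (Wi (al ρ p z u) 0) := by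
    have h1 : ∀ n : ℕ, Nat.card (Wi (al ρ p z u) ((n : ZMod p) * j)) = Nat.card (Wi (al ρ p z u) 0) := by
      intro n
      induction n with
      | zero => simp
      | succ n ih =>
        have e : ((n + 1 : ℕ) : ZMod p) * (j : ZMod p) = (n : ZMod p) * j + j := by
          push_cast
          ring
        rw [e, hstep, ih]
    intro i
    have h2 := h1 (i * (j : ZMod p)⁻¹).val
    rw [ZMod.natCast_val, ZMod.cast_id, mul_assoc, inv_mul_cancel₀ hj0, mul_one] at h2
    exact h2
  rw [Finset.prod_congr rfl fun i _ => hall i, Finset.prod_const, Finset.card_univ, ZMod.card]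

end grp

end Cfsg.Agent.H584.S8
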